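import Groth.Agent.GerbFlat.Scheme
import Groth.Agent.AlgStLib.LocQDescent
import Groth.Agent.AlgStLib.LocSurjObj
import Groth.Agent.AlgStLib.DiagCover
import Groth.Agent.AlgStLib.Small
import Groth.Agent.AlgSpLib.FlatFibNoeth
import Groth.Agent.S1386
import Groth.Agent.AssLib.FlatField

/-! # A section of a gerbe over a scheme is fppf -/

set_option backward.isDefEq.respectTransparency false
set_option backward.isDefEq.respectTransparency.types false

universe u

open CategoryTheory CategoryTheory.Functor CategoryTheory.Limits AlgebraicGeometry Opposite AlgSp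
open Groth.Agent.FibBase Groth.Agent.AlgSpLib Groth.Agent.AlgStLib

namespace Groth.Agent.GerbFlat

variable {S : Scheme.{u}}

/-- Surjective, flat and locally of finite presentation. -/
abbrev P3 : MorphismProperty (Sp S) := IsSurjectiveMor ⊓ LocP @Flat ⊓ LocP @LocallyOfFinitePresentation

theorem stableBC_P3 : StableBC (P3 (S := S)) :=
  stableBC_inf (stableBC_inf stableBC_isSurjectiveMor stableBC_locP) stableBC_locP

theorem isLocalOnBase_isSurjectiveMor : IsLocalOnBase (IsFppfCover (S := S)) IsSurjectiveMor :=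
  fun _ _ _ _ _ _ hg _ _ _ _ _ _ _ sq => ⟨fun h i => surjective_map_of_isPullback (sq i) h, fun h y => by
    obtain ⟨i, z, rfl⟩ := hg.2 y
    obtain ⟨w, rfl⟩ := h i z
    exact ⟨Points.map _ w, by rw [← Points.map_comp, (sq i).w, Points.map_comp]⟩⟩

theorem isLocalOnBase_P3 : IsLocalOnBase (IsFppfCover (S := S)) (P3 (S := S)) :=
  isLocalOnBase_inf (isLocalOnBase_inf isLocalOnBase_isSurjectiveMor (isLocalOnBase_fppf_locP _))
    (isLocalOnBase_fppf_locP _)

theorem sp_P3 {F G : Sp S} (hF : IsAlgSpace F) (hG : IsAlgSpace G) (a : F ⟶ G) (h : RepBySpWith P3 a.hom) : P3 a :=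
  property_of_repBySpWith isLocalOnBase_P3 hF hG h

/-- A functor of slices over the base is a composition with a morphism. -/
theorem exists_overMap_iso {V U : Over S} (Φ : FibCat.overCat V ⥤ᵇ FibCat.overCat U) :
    ∃ c : V ⟶ U, Nonempty (Φ ≅ AlgSt.overMap c) := by
  let Ψ : AlgSt.ofSch V ⥤ᵇ AlgSt.ofSch U :=
    BasedFunctor.comp (AlgSt.toOverCat V) (BasedFunctor.comp Φ (AlgSt.ofOverCat U))
  obtain ⟨c, hc⟩ := (yon S).map_surjective (spHom Ψ)
  refine ⟨c, ⟨(whiskerLeftIso Φ (ofOverCatIso U)).symm ≪≫ (whiskerRightIso (ofOverCatIso V)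
    (BasedFunctor.comp Φ (BasedFunctor.comp (AlgSt.ofOverCat U) (AlgSt.toOverCat U)))).symm ≪≫
    whiskerLeftIso (AlgSt.ofOverCat V) (whiskerRightIso (isoOfSpMap Ψ ≪≫
      eqToIso (congrArg (fun m => AlgSt.ofSpMap m) hc.symm)) (AlgSt.toOverCat U)) ≪≫ overMapIso c⟩⟩

theorem hom_eq_of_overMap_iso {V U : Over S} {a b : V ⟶ U}
    (i : (AlgSt.overMap a : FibCat.overCat V ⥤ᵇ FibCat.overCat U) ≅ AlgSt.overMap b) : a = b := by
  let m := (isoApp i (Over.mk (𝟙 V))).hom
  have hm : m.left = 𝟙 V :=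
    (map_eq_of_isHomLift_id (p := (FibCat.overCat U : AlgSt.Cat S).p) (BasedNatTrans.isHomLift i.hom rfl))
  have := Over.w m
  rw [hm] at this
  exact ((Category.id_comp a).symm.trans this.symm).trans ((Category.id_comp _).trans (Category.id_comp b))

/-- A section of a gerbe is locally essentially surjective. -/
theorem locEssSurj_section {𝒳 : AlgSt.Cat S} (h𝒳 : FibCat.IsFibGrpd 𝒳.p) {U : Over S}
    {π : 𝒳 ⥤ᵇ FibCat.overCat U} (hπ : Gerb.LocSurjHom (J S) π) {x : FibCat.overCat U ⥤ᵇ 𝒳}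
    (e : BasedFunctor.comp x π ≅ BasedFunctor.id _) : LocEssSurj x := by
  intro T y
  obtain ⟨t, ⟨j⟩⟩ := exists_overMap_iso (BasedFunctor.comp y π)
  let xt := BasedFunctor.comp (AlgSt.overMap t) x
  let I : BasedFunctor.comp y π ≅ BasedFunctor.comp xt π := j ≪≫ (whiskerLeftIso (AlgSt.overMap t) e).symm
  let y0 := y.obj (Over.mk (𝟙 T))
  let x0 := xt.obj (Over.mk (𝟙 T))
  have hy0 : 𝒳.p.obj y0 = T := y.w_obj _
  let b : π.obj y0 ⟶ π.obj x0 := (isoApp I (Over.mk (𝟙 T))).hom
  have hb0 : (FibCat.overCat U).p.IsHomLift (𝟙 T) b := BasedNatTrans.isHomLift I.hom rfl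
  obtain ⟨R, hR, hR'⟩ := hπ y0 x0 b (isHomLift_id_congr hy0.symm hb0)
  refine ⟨R.pullback (eqToHom hy0.symm), (J S).pullback_stable _ hR, fun V f hf => ?_⟩
  obtain ⟨x₁, φ, ψ, hφ, hψ, -⟩ := hR' _ hf
  have hV : 𝒳.p.obj x₁ = V := IsHomLift.domain_eq 𝒳.p (f ≫ eqToHom hy0.symm) φ
  have hφ' : 𝒳.p.IsHomLift f φ := IsHomLift.of_fac' _ f φ hV hy0
    (by rw [IsHomLift.fac' 𝒳.p (f ≫ eqToHom hy0.symm) φ]; simp)
  have hψ' : 𝒳.p.IsHomLift f ψ := IsHomLift.of_fac' _ f ψ hV (xt.w_obj _)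
    (by rw [IsHomLift.fac' 𝒳.p (f ≫ eqToHom hy0.symm) ψ]; simp)
  let m : (AlgSt.overMap f).obj (Over.mk (𝟙 V)) ⟶ Over.mk (𝟙 T) := Over.homMk f (by
    show f ≫ 𝟙 _ = 𝟙 V ≫ f
    simp)
  have hy : 𝒳.p.IsHomLift f (y.map m) := overMap_isHomLift y m
  have hx : 𝒳.p.IsHomLift f (xt.map m) := overMap_isHomLift xt m
  obtain ⟨c, hc, -⟩ := exists_iso_of_lifts (hp := h𝒳) f φ (y.map m)
  obtain ⟨c', hc', -⟩ := exists_iso_of_lifts (hp := h𝒳) f ψ (xt.map m)
  have : 𝒳.p.IsHomLift (𝟙 V) c'.inv := IsHomLift.lift_id_inv 𝒳.p V c'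
  obtain ⟨i⟩ := exists_iso_of_eval h𝒳 (BasedFunctor.comp (AlgSt.overMap f) y)
    (BasedFunctor.comp (AlgSt.overMap f) xt) (c.hom ≫ c'.inv)
    (inferInstanceAs (𝒳.p.IsHomLift (𝟙 V) (c.hom ≫ c'.inv)))
  exact ⟨BasedFunctor.comp (AlgSt.overMap f) (AlgSt.overMap t), ⟨i.symm⟩⟩

/-- The functor of slices of a morphism of representable sheaves. -/
def overOfMapIso {T : Over S} {U : Over S} {F : Sp S} {g : (yon S).obj T ⟶ F} {a : F ⟶ (yon S).obj U}
    {w : T ⟶ U} (h : (yon S).map w = g ≫ a) :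
    BasedFunctor.comp (overOfMap g) (BasedFunctor.comp (AlgSt.ofSpMap a) (AlgSt.toOverCat U)) ≅ AlgSt.overMap w :=
  overIso _ _ (fun x => by
    have : ((yon S).map w).hom.app (op x.left) ⟨x.hom⟩ = a.hom.app (op x.left) (g.hom.app (op x.left) ⟨x.hom⟩) := by
      rw [h]; rfl
    have h' : (⟨x.hom ≫ w⟩ : ULift (x.left ⟶ U)) = _ := this
    show 𝟙 x.left ≫ (x.hom ≫ w) = (a.hom.app (op x.left) (g.hom.app (op x.left) ⟨x.hom⟩)).down
    rw [← h', Category.id_comp])

/-- The first projection of a representation of a fibre product over a scheme. -/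
theorem repByAlgSpWith_fpFst_of_space {𝒳 𝒴 : AlgSt.Cat S} {P : MorphismProperty (Sp S)} (hPb : StableBC P)
    {f : 𝒳 ⥤ᵇ 𝒴} {U : Over S} {y : FibCat.overCat U ⥤ᵇ 𝒴} {F : Sp S} (hF : IsAlgSpace F)
    (e : AlgSt.ofSp F ⥤ᵇ FibCat.fp y f) (he : FibCat.IsEquivOver e)
    (h : P (AlgSt.spMapOfOver (BasedFunctor.comp e (FibCat.fpFst y f)))) :
    AlgSt.RepByAlgSpWith P (FibCat.fpFst y f) :=
  (repByAlgSpWith_iff_of_square (f := FibCat.fpFst y f)
    (f' := BasedFunctor.comp (AlgSt.ofSpMap (AlgSt.spMapOfOver (BasedFunctor.comp e (FibCat.fpFst y f))))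
      (AlgSt.toOverCat U)) (a := e) (b := BasedFunctor.id _) he isEquivOver_id
      (isoSpMapOfOver (BasedFunctor.comp e (FibCat.fpFst y f))).symm).2
    (repByAlgSpWith_postcomp (isEquivOver_toOverCat U)
      (repByAlgSpWith_ofSpMap hPb hF (IsAlgSpace.yon_obj U) _ h))

theorem locP_flat_to_field {K : Type u} [Field K] {sK : Spec (CommRingCat.of K) ⟶ S} {G : Sp S}
    (hG : IsAlgSpace G) (a : G ⟶ (yon S).obj (Over.mk sK)) : LocP @Flat a := by
  obtain ⟨T, p, hp, hp'⟩ := hG.atlas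
  obtain ⟨h, hh⟩ := (yon S).map_surjective (p ≫ a)
  exact locP_of_chart (h := h) hp hp' (repWith_id _ _) (by rw [Category.comp_id, hh])
    (AssLib.flat_over_field h.left)

/-- A section of a gerbe over a scheme is surjective, flat and locally of finite presentation, and atlases of
the gerbe are smooth over the scheme. -/
theorem section_fppf {𝒳 : AlgSt.Cat S} (h𝒳 : AlgSt.IsAlgStack Scheme.fppfPrecoverage 𝒳) {U : Over S}
    {π : 𝒳 ⥤ᵇ FibCat.overCat U} (hπ : Gerb.LocSurjHom (J S) π) {x : FibCat.overCat U ⥤ᵇ 𝒳}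
    (e : BasedFunctor.comp x π ≅ BasedFunctor.id _) {V : Over S} (v : FibCat.overCat V ⥤ᵇ 𝒳)
    (hv : AlgSt.RepByAlgSpWith (LocP @Smooth) v) (hv' : AlgSt.RepByAlgSpWith IsSurjectiveMor v) :
    AlgSt.RepByAlgSpWith P3 x ∧
      ∀ c : V ⟶ U, Nonempty (BasedFunctor.comp v π ≅ AlgSt.overMap c) → Smooth c.left := by
  have hg := h𝒳.isStack.1
  have hx : AlgSt.RepByAlgSp1 x := repByAlgSp1_of_diag hg h𝒳.diag U x
  have hes : LocEssSurj x := locEssSurj_section hg hπ e
  obtain ⟨P, eP, heP⟩ := hx V v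
  let aP := AlgSt.spMapOfOver (BasedFunctor.comp eP (FibCat.fpFst v x))
  let bP := AlgSt.spMapOfOver (BasedFunctor.comp eP (FibCat.fpSnd v x))
  let eP' := BasedFunctor.comp eP (fpSwap v x)
  have heP' : FibCat.IsEquivOver eP' := isEquivOver_comp heP (fpSwap_isEquivOver v x)
  have hswap : AlgSt.spMapOfOver (BasedFunctor.comp eP' (FibCat.fpFst x v)) = bP :=
    spMapOfOver_congr (whiskerLeftIso eP
      (show BasedFunctor.comp (fpSwap v x) (FibCat.fpFst x v) ≅ FibCat.fpSnd v x from Iso.refl _))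
  have hb1 : LocP @Smooth bP := hswap ▸
    ((show RepOver (LocP @Smooth) (FibCat.fpFst x v) from hv U x).property_of_stableBC stableBC_locP eP' heP').2
  have hb2 : IsSurjectiveMor bP := hswap ▸
    ((show RepOver IsSurjectiveMor (FibCat.fpFst x v) from hv' U x).property_of_stableBC
      stableBC_isSurjectiveMor eP' heP').2
  obtain ⟨P₀, p, hp, hp'⟩ := P.property.atlas
  obtain ⟨as, has⟩ := (yon S).map_surjective (p ≫ aP)
  obtain ⟨bs, hbs⟩ := (yon S).map_surjective (p ≫ bP)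
  have hV := IsAlgSpace.yon_obj (S := S) V
  have hU := IsAlgSpace.yon_obj (S := S) U
  have hP0 := IsAlgSpace.yon_obj (S := S) P₀
  have hbss : Smooth bs.left := locP_yon_map (P := @Smooth) (hbs ▸ locP_comp hP0 P.property hU
    (locP_mono (Q := @Smooth) (fun _ _ f (_ : Etale f) => inferInstanceAs (Smooth f))
      (locP_of_repWith (P := @Etale) hp)) hb1)
  let E : FibCat.overCat P₀ ⥤ᵇ FibCat.fp v x := BasedFunctor.comp (overOfMap p) eP
  let j₁ : BasedFunctor.comp E (FibCat.fpFst v x) ≅ AlgSt.overMap as :=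
    whiskerLeftIso (overOfMap p) (isoSpMapOfOver (BasedFunctor.comp eP (FibCat.fpFst v x))) ≪≫ overOfMapIso has
  let j₂ : BasedFunctor.comp E (FibCat.fpSnd v x) ≅ AlgSt.overMap bs :=
    whiskerLeftIso (overOfMap p) (isoSpMapOfOver (BasedFunctor.comp eP (FibCat.fpSnd v x))) ≪≫ overOfMapIso hbs
  let I : BasedFunctor.comp (AlgSt.overMap as) v ≅ BasedFunctor.comp (AlgSt.overMap bs) x :=
    (whiskerRightIso j₁ v).symm ≪≫ whiskerLeftIso E (FibCat.fpIso v x) ≪≫ whiskerRightIso j₂ x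
  obtain ⟨c, ⟨jc⟩⟩ := exists_overMap_iso (BasedFunctor.comp v π)
  have hac : as ≫ c = bs := hom_eq_of_overMap_iso ((overMapCompIso as c).symm ≪≫
    (whiskerLeftIso (AlgSt.overMap as) jc).symm ≪≫ whiskerRightIso I π ≪≫ whiskerLeftIso (AlgSt.overMap bs) e)
  -- local sections
  obtain ⟨R, hR, hz⟩ := hes V v
  obtain ⟨ι, Vk, vk, hvf, hvp, hvs, hvR⟩ := exists_fppf_of_mem_J (show R ∈ J S V from hR)
  obtain ⟨gP, hgP, -, ⟨iP⟩⟩ := isEquivOver_inv heP
  have hlift : ∀ k, ∃ g : (yon S).obj (Vk k) ⟶ P.obj, g ≫ aP = (yon S).map (vk k) := fun k => by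
    obtain ⟨z, ⟨iz⟩⟩ := hz (vk k) (hvR k)
    let Ek : FibCat.overCat (Vk k) ⥤ᵇ FibCat.fp v x := FibCat.fpLift (AlgSt.overMap (vk k)) z iz.symm
    let g := mapOfOver (BasedFunctor.comp Ek gP)
    obtain ⟨w, hw⟩ := (yon S).map_surjective (g ≫ aP)
    refine ⟨g, hw.symm.trans (congrArg (fun t => (yon S).map t) (hom_eq_of_overMap_iso ?_))⟩
    exact (overOfMapIso hw).symm ≪≫
      whiskerLeftIso (overOfMap g) (isoSpMapOfOver (BasedFunctor.comp eP (FibCat.fpFst v x))).symm ≪≫
      (whiskerRightIso (isoOverOfMap (BasedFunctor.comp Ek gP))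
        (BasedFunctor.comp eP (FibCat.fpFst v x))).symm ≪≫
      whiskerLeftIso Ek (whiskerRightIso iP (FibCat.fpFst v x))
  choose g hgk using hlift
  let Wk : ι → Over S := fun k => hp.rep.pullback (g k)
  let pr : ∀ k, Wk k ⟶ Vk k := fun k => hp.rep.snd (g k)
  let σk : ∀ k, Wk k ⟶ P₀ := fun k => hp.rep.fst' (g k)
  have hσk : ∀ k, σk k ≫ as = pr k ≫ vk k := fun k => (yon S).map_injective (by
    rw [Functor.map_comp, Functor.map_comp, has, ← hgk, ← Category.assoc, ← Category.assoc,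
      (hp.rep.isPullback' (g k)).w])
  let w₀ : (∐ fun k => (Wk k).left) ⟶ V.left := Sigma.desc fun k => (pr k ≫ vk k).left
  let σ₀ : (∐ fun k => (Wk k).left) ⟶ P₀.left := Sigma.desc fun k => (σk k).left
  have hσ : σ₀ ≫ as.left = w₀ := Sigma.hom_ext _ _ fun k => by
    simp only [σ₀, w₀, Sigma.ι_desc_assoc, Sigma.ι_desc, ← Over.comp_left, hσk]
  have hpe : ∀ k, Etale (pr k).left := fun k => hp.property_snd (g k)
  have hps : ∀ k, Surjective (pr k).left := fun k => hp'.2 (g k) _ _ (hp.rep.isPullback (g k))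
  have hw₀ : fppf w₀ := by
    have : Flat w₀ := IsZariskiLocalAtSource.sigmaDesc fun k => by
      have := hpe k; have := hvf k; rw [Over.comp_left]; infer_instance
    have : LocallyOfFinitePresentation w₀ := IsZariskiLocalAtSource.sigmaDesc fun k => by
      have := hpe k; have := hvp k; rw [Over.comp_left]; infer_instance
    have : Surjective w₀ := ⟨fun t => by
      obtain ⟨k, y, rfl⟩ := hvs t
      obtain ⟨z, rfl⟩ := (hps k).surj y
      exact ⟨Sigma.ι (fun k => (Wk k).left) k z, by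
        rw [← Scheme.Hom.comp_apply, Sigma.ι_desc, Over.comp_left, Scheme.Hom.comp_apply]⟩⟩
    exact fppf_of w₀
  have hacl : as.left ≫ c.left = bs.left := by rw [← Over.comp_left, hac]
  have : Flat (as.left ≫ c.left) := by rw [hacl]; infer_instance
  have : LocallyOfFinitePresentation (as.left ≫ c.left) := by rw [hacl]; infer_instance
  -- fibres
  have hfib : ∀ t : U.left, Flat (MoreMor.fiberMap as.left c.left t) := fun t => by
    refine flat_fiberMap as.left c.left t w₀ hw₀ ?_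
    let K := U.left.residueField t
    let Ko : Over S := Over.mk (U.left.fromSpecResidueField t ≫ U.hom)
    let uK : Ko ⟶ U := Over.homMk (U.left.fromSpecResidueField t) rfl
    let xK := BasedFunctor.comp (AlgSt.overMap uK) x
    let T₀ := pullback w₀ (c.left.fiberι t)
    let tv : T₀ ⟶ V.left := pullback.snd w₀ (c.left.fiberι t) ≫ c.left.fiberι t
    let T : Over S := Over.mk (tv ≫ V.hom)
    let tV : T ⟶ V := Over.homMk tv rfl
    have hq : tv ≫ c.left = (pullback.snd w₀ (c.left.fiberι t) ≫ c.left.fiberToSpecResidueField t) ≫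
        U.left.fromSpecResidueField t := by
      simp only [tv, Category.assoc]
      rw [c.left.fiber_fac t]
    let qK : T ⟶ Ko := Over.homMk (pullback.snd w₀ (c.left.fiberι t) ≫ c.left.fiberToSpecResidueField t) (by
      show (_ ≫ _) ≫ U.left.fromSpecResidueField t ≫ U.hom = tv ≫ V.hom
      rw [← Category.assoc, ← hq, Category.assoc, Over.w c])
    have htc : tV ≫ c = qK ≫ uK := Over.OverMorphism.ext hq
    let σT : T ⟶ P₀ := Over.homMk (pullback.fst w₀ (c.left.fiberι t) ≫ σ₀) (by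
      show (_ ≫ σ₀) ≫ P₀.hom = tv ≫ V.hom
      rw [← Over.w as, ← Category.assoc, Category.assoc _ σ₀, hσ, pullback.condition])
    have hσT : σT ≫ as = tV := Over.OverMorphism.ext (by
      show (_ ≫ σ₀) ≫ as.left = tv
      rw [Category.assoc, hσ, pullback.condition])
    have hσb : σT ≫ bs = qK ≫ uK := by rw [← htc, ← hσT, Category.assoc, hac]
    let iT : BasedFunctor.comp (AlgSt.overMap tV) v ≅ BasedFunctor.comp (AlgSt.overMap qK) xK :=
      (whiskerRightIso (overMapCompIso σT as ≪≫ eqToIso (congrArg (fun m => AlgSt.overMap m) hσT)) v).symm ≪≫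
      whiskerLeftIso (AlgSt.overMap σT) I ≪≫
      whiskerRightIso (overMapCompIso σT bs ≪≫ eqToIso (congrArg (fun m => AlgSt.overMap m) hσb)) x ≪≫
      (whiskerRightIso (overMapCompIso qK uK) x).symm
    obtain ⟨G, eG, heG⟩ := hx Ko xK
    have hG : AlgSt.RepByAlgSpWith (LocP @Flat) (FibCat.fpFst xK x) :=
      repByAlgSpWith_fpFst_of_space stableBC_locP G.property eG heG (locP_flat_to_field G.property _)
    have hT : RepOver (LocP @Flat) (FibCat.fpFst (BasedFunctor.comp (AlgSt.overMap qK) xK) x) :=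
      RepOver.of_equiv (hG T (AlgSt.overMap qK)) (pasteVert (AlgSt.overMap qK) xK x)
        (pasteVert_isEquivOver _ _ _) (Iso.refl _)
    have hl := property_pullback_of_repOver stableBC_locP tV v P.property eP heP (repOver_congr iT.symm hT)
    let Q := pullback as tV
    let k : (yon S).obj Q ⟶ pullback aP ((yon S).map tV) :=
      pullback.lift ((yon S).map (pullback.fst as tV) ≫ p) ((yon S).map (pullback.snd as tV)) (by
        rw [Category.assoc, ← has, ← Functor.map_comp, ← Functor.map_comp, pullback.condition])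
    have sqk : IsPullback ((yon S).map (pullback.fst as tV)) k p (pullback.fst aP ((yon S).map tV)) := by
      refine IsPullback.of_bot ?_ (pullback.lift_fst _ _ _).symm (IsPullback.of_hasPullback aP ((yon S).map tV))
      rw [pullback.lift_snd, ← has]
      exact (IsPullback.of_hasPullback as tV).map (yon S)
    have hfl : Flat (pullback.snd as tV).left := hl k (𝟙 _) (pullback.snd as tV)
      (repWith_of_isPullback sqk hp) (repWith_id _ T) (by rw [pullback.lift_snd, Category.comp_id])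
    have sqS : IsPullback (pullback.fst as tV).left (pullback.snd as tV).left as.left tv :=
      (IsPullback.of_hasPullback as tV).map (Over.forget S)
    show Flat (pullback.snd as.left tv)
    rw [← IsPullback.isoIsPullback_hom_snd _ _ (IsPullback.of_hasPullback as.left tv) sqS]
    exact (MorphismProperty.cancel_left_of_respectsIso @Flat _ _).2 hfl
  obtain ⟨hfa, -, -, hsm⟩ := fppf_of_local_section as.left c.left σ₀ (hσ.symm ▸ hw₀) hfib
  have hw' : p ≫ aP = (yon S).map as ≫ 𝟙 _ := by rw [Category.comp_id, has]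
  have hsurj : IsSurjectiveMor aP := fun y => by
    obtain ⟨z, rfl⟩ := surjective_map_of_repWith ((repWith_yon_map_iff (P := @Surjective) as).2 hfa.1.1) y
    exact ⟨Points.map p z, by rw [← Points.map_comp, has]⟩
  have haP : P3 aP := ⟨⟨hsurj, locP_of_chart hp hp' (repWith_id _ V) hw' hfa.1.2⟩,
    locP_of_chart hp hp' (repWith_id _ V) hw' hfa.2⟩
  refine ⟨repByAlgSpWith_of_locEssSurj stableBC_P3 isLocalOnBase_P3 hx (locEssSurj_of_atlas hv hv')
    (repByAlgSpWith_fpFst_of_space stableBC_P3 P.property eP heP haP), ?_⟩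
  rintro c' ⟨jc'⟩
  obtain rfl := hom_eq_of_overMap_iso (jc'.symm ≪≫ jc)
  exact hsm (by rw [hacl]; exact hbss)

end Groth.Agent.GerbFlat
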