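import Groth.Agent.GerbFlat.Section
import Groth.Agent.AlgStLib.RepDiag
import Groth.Agent.AlgStLib.Diag

/-! # The diagonal of a gerbe is fppf -/

set_option backward.isDefEq.respectTransparency false
set_option backward.isDefEq.respectTransparency.types false

universe u

open CategoryTheory CategoryTheory.Functor CategoryTheory.Limits AlgebraicGeometry Opposite AlgSp
open Groth.Agent.FibBase Groth.Agent.AlgSpLib Groth.Agent.AlgStLib

namespace Groth.Agent.GerbFlat

variable {S : Scheme.{u}}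

theorem diag_of_section {𝒳 : AlgSt.Cat S} (h𝒳 : AlgSt.IsAlgStack Scheme.fppfPrecoverage 𝒳) {U : Over S}
    {π : 𝒳 ⥤ᵇ FibCat.overCat U} (hπ : Gerb.LocSurjHom (J S) π) {x : FibCat.overCat U ⥤ᵇ 𝒳}
    (e : BasedFunctor.comp x π ≅ BasedFunctor.id _) : AlgSt.RepByAlgSpWith P3 (FibCat.diag π) := by
  obtain ⟨V, v, hv, hv'⟩ := h𝒳.atlas
  have hx := (section_fppf h𝒳 hπ e v hv hv').1
  have hes := locEssSurj_section h𝒳.isStack.1 hπ e
  have hU := (isDM_of_repByAlgSp (repByAlgSp_overCat U)).1.diag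
  have hfst : FibCat.IsEquivOver (FibCat.fpFst (BasedFunctor.comp x π) (BasedFunctor.comp x π)) :=
    isEquivOver_of_iso (Iso.refl _) (isEquivOver_comp
      (fpMap_isEquivOver (F := BasedFunctor.comp x π) (G := BasedFunctor.id _) (F' := BasedFunctor.comp x π)
        (G' := BasedFunctor.comp x π) (a := BasedFunctor.id _) (b := BasedFunctor.id _) (c := BasedFunctor.id _)
        (Iso.refl _) e isEquivOver_id isEquivOver_id)
      (fpFst_id_isEquivOver _))
  have hweak : AlgSt.RepByAlgSpWith P3 (weaken x x π) :=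
    (repByAlgSpWith_iff_of_square (f := FibCat.fpFst x x) (f' := weaken x x π) (a := BasedFunctor.id _)
      (b := FibCat.fpFst (BasedFunctor.comp x π) (BasedFunctor.comp x π)) isEquivOver_id hfst (Iso.refl _)).1
      (repByAlgSpWith_fpFst x hx)
  exact repByAlgSpWith_of_locEssSurj stableBC_P3 isLocalOnBase_P3 (repByAlgSp1_diag h𝒳.diag hU π)
    (locEssSurj_pairMap π hes hes)
    ((repByAlgSpWith_iff_of_square (f' := weaken x x π) (f := FibCat.fpFst (pairMap x x π) (FibCat.diag π))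
      (a := diagComparison x x π) (b := BasedFunctor.id _) (diagComparison_isEquivOver x x π) isEquivOver_id
      (Iso.refl _)).2 hweak)

variable {𝒳 𝒴 : AlgSt.Cat S}

/-- The diagonal of a gerbe between algebraic stacks is surjective, flat and locally of finite presentation. -/
theorem diag_of_isGerbeOver (h𝒳 : AlgSt.IsAlgStack Scheme.fppfPrecoverage 𝒳)
    (h𝒴 : AlgSt.IsAlgStack Scheme.fppfPrecoverage 𝒴) {f : 𝒳 ⥤ᵇ 𝒴} (hf : Gerb.IsGerbeOver (J S) f) :
    AlgSt.RepByAlgSpWith P3 (FibCat.diag f) := by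
  intro U y
  let y₀ : FibCat.overCat U ⥤ᵇ 𝒴 := BasedFunctor.comp (BasedFunctor.comp y (FibCat.fpFst f f)) f
  let q := FibCat.fpFst y₀ f
  let p₁ : FibCat.overCat U ⥤ᵇ FibCat.fp y₀ f :=
    FibCat.fpLift (BasedFunctor.id _) (BasedFunctor.comp y (FibCat.fpFst f f)) (Iso.refl y₀)
  have hU := (isDM_of_repByAlgSp (repByAlgSp_overCat U)).1
  have hq : AlgSt.RepByAlgSpWith P3 (FibCat.diag q) :=
    diag_of_section (isAlgStack_fp hU h𝒳 h𝒴.isStack h𝒴.diag y₀ f)
      (GerbLib.isGerbeOver_fpFst h𝒳.isStack.1 h𝒴.isStack.1 hU.isStack.1 y₀ hf).2 (x := p₁) (Iso.refl _)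
  let G := FibCat.fpSnd (FibCat.fpSnd y₀ f) (FibCat.fpFst f f)
  have hG : AlgSt.RepByAlgSpWith P3 (FibCat.fpFst G (FibCat.diag f)) :=
    (repByAlgSpWith_iff_of_square (f' := FibCat.diag q) (f := FibCat.fpFst G (FibCat.diag f))
      (diagPullback_isEquivOver f y₀) (sqLift_isEquivOver f y₀) (diagLiftIso f y₀)).2 hq
  let σ : FibCat.overCat U ⥤ᵇ FibCat.fp (FibCat.fpSnd y₀ f) (FibCat.fpFst f f) :=
    FibCat.fpLift p₁ y (Iso.refl _)
  exact RepOver.of_equiv (hG U σ) (pasteVert σ G (FibCat.diag f)) (pasteVert_isEquivOver σ G _) (Iso.refl _)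

end Groth.Agent.GerbFlat
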