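import Groth.Agent.GerbFlat.Section
import Groth.Agent.AlgStLib.Stack

/-! # Gerbes are smooth and surjective -/

set_option backward.isDefEq.respectTransparency false
set_option backward.isDefEq.respectTransparency.types false

universe u

open CategoryTheory CategoryTheory.Functor CategoryTheory.Limits AlgebraicGeometry Opposite AlgSp
open Groth.Agent.FibBase Groth.Agent.AlgSpLib Groth.Agent.AlgStLib

namespace Groth.Agent.GerbFlat

variable {S : Scheme.{u}} {𝒳 𝒴 : AlgSt.Cat S}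

/-- Functors which are surjective on objects locally are locally essentially surjective. -/
theorem locEssSurj_of_locSurjObj (h𝒳 : FibCat.IsFibGrpd 𝒳.p) (h𝒴 : FibCat.IsFibGrpd 𝒴.p) {f : 𝒳 ⥤ᵇ 𝒴}
    (hf : Gerb.LocSurjObj (J S) f) : LocEssSurj f := by
  intro T y
  let y0 := y.obj (Over.mk (𝟙 T))
  have hy0 : 𝒴.p.obj y0 = T := y.w_obj _
  obtain ⟨R, hR, hR'⟩ := hf y0
  refine ⟨R.pullback (eqToHom hy0.symm), (J S).pullback_stable _ hR, fun V h hh => ?_⟩
  obtain ⟨x, g, hg⟩ := hR' _ hh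
  have hV : 𝒴.p.obj (f.obj x) = V := IsHomLift.domain_eq 𝒴.p (h ≫ eqToHom hy0.symm) g
  have hx : 𝒳.p.obj x = V := (f.w_obj x).symm.trans hV
  have hg' : 𝒴.p.IsHomLift h g := IsHomLift.of_fac' _ h g hV hy0
    (by rw [IsHomLift.fac' 𝒴.p (h ≫ eqToHom hy0.symm) g]; simp)
  obtain ⟨z, e, he⟩ := exists_overCat_obj h𝒳 x hx
  have hfe : 𝒴.p.IsHomLift (𝟙 V) (f.map e.hom) := f.preserves_isHomLift (𝟙 V) e.hom
  let m : (AlgSt.overMap h).obj (Over.mk (𝟙 V)) ⟶ Over.mk (𝟙 T) := Over.homMk h (by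
    show h ≫ 𝟙 _ = 𝟙 V ≫ h
    simp)
  have hm : 𝒴.p.IsHomLift h (y.map m) := overMap_isHomLift y m
  obtain ⟨c, hc, -⟩ := exists_iso_of_lifts (hp := h𝒴) h (y.map m) g
  obtain ⟨i⟩ := exists_iso_of_eval h𝒴 (BasedFunctor.comp z f) (BasedFunctor.comp (AlgSt.overMap h) y)
    (f.map e.hom ≫ c.hom) (inferInstanceAs (𝒴.p.IsHomLift (𝟙 V) (f.map e.hom ≫ c.hom)))
  exact ⟨z, ⟨i⟩⟩

/-- Smoothness is detected on a local section. -/
theorem smooth_of_local_section {V U W : Scheme.{u}} (c : V ⟶ U) (d : W ⟶ V) (hd : fppf (d ≫ c))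
    (h : Smooth (pullback.snd c c)) : Smooth c ∧ Surjective c := by
  refine ⟨?_, ⟨fun t => ?_⟩⟩
  · let m : pullback c (d ≫ c) ⟶ pullback c c := pullback.lift (pullback.fst _ _) (pullback.snd _ _ ≫ d)
      (by rw [Category.assoc, pullback.condition])
    have sq : IsPullback m (pullback.snd c (d ≫ c)) (pullback.snd c c) d :=
      IsPullback.of_right (by rw [pullback.lift_fst]; exact IsPullback.of_hasPullback c (d ≫ c))
        (pullback.lift_snd _ _ _) (IsPullback.of_hasPullback c c)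
    have : MorphismProperty.DescendsAlong (@Smooth : MorphismProperty Scheme.{u}) fppf := by
      unfold fppf; infer_instance
    exact MorphismProperty.of_isPullback_of_descendsAlong (Q := fppf) (IsPullback.of_hasPullback c (d ≫ c)).flip
      hd (MorphismProperty.of_isPullback sq h)
  · have : Surjective (d ≫ c) := hd.1.1
    obtain ⟨w, rfl⟩ := (d ≫ c).surjective t
    exact ⟨d w, by rw [Scheme.Hom.comp_apply]⟩

/-- The slice of a fibre product of schemes. -/
theorem exists_overCat_fp {V U : Over S} (c : V ⟶ U) :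
    ∃ E : FibCat.overCat (pullback c c) ⥤ᵇ FibCat.fp (AlgSt.overMap c) (AlgSt.overMap c),
      FibCat.IsEquivOver E ∧ Nonempty (BasedFunctor.comp E (FibCat.fpFst _ _) ≅
        AlgSt.overMap (pullback.snd c c)) := by
  let q' : FibCat.overCat V ⥤ᵇ AlgSt.ofSch U := BasedFunctor.comp (AlgSt.overMap c) (AlgSt.ofOverCat U)
  let M : AlgSt.ofSch V ⥤ᵇ AlgSt.ofSch U := Stk.ofPshMap ((pyon S).map c)
  let i : BasedFunctor.comp (AlgSt.toOverCat V) q' ≅ M :=
    (whiskerRightIso (whiskerLeftIso (AlgSt.toOverCat V) (overMapIso c)) (AlgSt.ofOverCat U)).symm ≪≫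
      whiskerRightIso (toOverCatIso V) (BasedFunctor.comp M
        (BasedFunctor.comp (AlgSt.toOverCat U) (AlgSt.ofOverCat U))) ≪≫
      whiskerLeftIso M (toOverCatIso U)
  let sq := (IsPullback.of_hasPullback c c).map (pyon S)
  have := full_of_isEquivOver (isEquivOver_toOverCat U)
  have := faithful_of_isEquivOver (isEquivOver_toOverCat U)
  let m := fpMap (F := AlgSt.overMap c) (G := AlgSt.overMap c)
    (F' := BasedFunctor.comp (AlgSt.ofOverCat V) (Stk.ofPshMap ((yon S).map c).hom)) (G' := q')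
    (a := BasedFunctor.id _) (b := BasedFunctor.id _) (c := AlgSt.toOverCat U)
    (overMapIso c).symm (whiskerLeftIso (AlgSt.overMap c) (ofOverCatIso U))
  let K := compare q' (AlgSt.toOverCat V) i sq
  refine ⟨BasedFunctor.comp (AlgSt.ofOverCat (pullback c c)) (BasedFunctor.comp K m),
    isEquivOver_comp (isEquivOver_ofOverCat _) (isEquivOver_comp
      (compare_isEquivOver q' (AlgSt.toOverCat V) i (isEquivOver_toOverCat V) sq)
      (fpMap_isEquivOver _ _ isEquivOver_id isEquivOver_id)), ⟨?_⟩⟩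
  exact whiskerLeftIso (AlgSt.ofOverCat (pullback c c)) (compareFst q' (AlgSt.toOverCat V) i sq) ≪≫
    overMapIso (pullback.snd c c)

/-- Atlases of a gerbe over a scheme are smooth and surjective over the scheme. -/
theorem smooth_of_atlas (h𝒳 : AlgSt.IsAlgStack Scheme.fppfPrecoverage 𝒳) {U : Over S}
    {π : 𝒳 ⥤ᵇ FibCat.overCat U} (hπ : Gerb.IsGerbeOver (J S) π) {V : Over S} (v : FibCat.overCat V ⥤ᵇ 𝒳)
    (hv : AlgSt.RepByAlgSpWith (LocP @Smooth) v) (hv' : AlgSt.RepByAlgSpWith IsSurjectiveMor v) (c : V ⟶ U)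
    (jc : BasedFunctor.comp v π ≅ AlgSt.overMap c) : Smooth c.left ∧ Surjective c.left := by
  -- local sections
  have hes : LocEssSurj (BasedFunctor.comp v π) := locEssSurj_comp (locEssSurj_of_atlas hv hv')
    (locEssSurj_of_locSurjObj h𝒳.isStack.1 (isFibGrpd_overCat U) hπ.1)
  obtain ⟨R, hR, hz⟩ := hes U (BasedFunctor.id _)
  obtain ⟨ι, Uk, t, htf, htp, hts, htR⟩ := exists_fppf_of_mem_J (show R ∈ J S U from hR)
  have hd : ∀ k, ∃ d : Uk k ⟶ V, d ≫ c = t k := fun k => by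
    obtain ⟨z, ⟨iz⟩⟩ := hz (t k) (htR k)
    obtain ⟨d, ⟨id'⟩⟩ := exists_overMap_iso z
    exact ⟨d, hom_eq_of_overMap_iso ((overMapCompIso d c).symm ≪≫ (whiskerRightIso id' (AlgSt.overMap c)).symm ≪≫
      (whiskerLeftIso z jc).symm ≪≫ iz)⟩
  choose d hdc using hd
  let d₀ : (∐ fun k => (Uk k).left) ⟶ V.left := Sigma.desc fun k => (d k).left
  have hdc₀ : d₀ ≫ c.left = Sigma.desc fun k => (t k).left := Sigma.hom_ext _ _ fun k => by
    simp only [d₀, Sigma.ι_desc_assoc, Sigma.ι_desc, ← Over.comp_left, hdc]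
  have hfp : fppf (d₀ ≫ c.left) := by
    rw [hdc₀]
    have : Flat (Sigma.desc fun k => (t k).left) := IsZariskiLocalAtSource.sigmaDesc htf
    have : LocallyOfFinitePresentation (Sigma.desc fun k => (t k).left) := IsZariskiLocalAtSource.sigmaDesc htp
    have : Surjective (Sigma.desc fun k => (t k).left) := ⟨fun u => by
      obtain ⟨k, y, rfl⟩ := hts u
      exact ⟨Sigma.ι (fun k => (Uk k).left) k y, by rw [← Scheme.Hom.comp_apply, Sigma.ι_desc]⟩⟩
    exact fppf_of _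
  -- the base change to the atlas has a section
  let H := AlgSt.overMap c
  have hV := (isDM_of_repByAlgSp (repByAlgSp_overCat V)).1
  have hU := (isDM_of_repByAlgSp (repByAlgSp_overCat U)).1
  have hT := isAlgStack_fp hV h𝒳 hU.isStack hU.diag H π
  let s : FibCat.overCat V ⥤ᵇ FibCat.fp H π := FibCat.fpLift (BasedFunctor.id _) v jc.symm
  obtain ⟨E, hE, ⟨iE⟩⟩ := exists_overCat_fp c
  let m := fpMap (F := H) (G := BasedFunctor.comp v π) (F' := H) (G' := H) (a := BasedFunctor.id _)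
    (b := BasedFunctor.id _) (c := BasedFunctor.id _) (Iso.refl _) jc.symm
  obtain ⟨g, hg, -, ⟨ig⟩⟩ := isEquivOver_inv (pasteHor_isEquivOver H v π)
  obtain ⟨g', hg', ⟨ig'⟩, -⟩ := isEquivOver_inv (pasteHor_isEquivOver H v π)
  let Φ : FibCat.overCat (pullback c c) ⥤ᵇ FibCat.fp (FibCat.fpSnd H π) v :=
    BasedFunctor.comp E (BasedFunctor.comp m g)
  have hΦ : FibCat.IsEquivOver Φ :=
    isEquivOver_comp hE (isEquivOver_comp (fpMap_isEquivOver _ _ isEquivOver_id isEquivOver_id) hg)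
  let vV := BasedFunctor.comp Φ (FibCat.fpFst (FibCat.fpSnd H π) v)
  have h2 := section_fppf hT (GerbLib.isGerbeOver_fpFst h𝒳.isStack.1 (isFibGrpd_overCat U)
      (isFibGrpd_overCat V) H hπ).2 (x := s) (Iso.refl _) vV
    (repByAlgSpWith_precomp hΦ (repByAlgSpWith_fpFst _ hv))
    (repByAlgSpWith_precomp hΦ (repByAlgSpWith_fpFst _ hv'))
  have hsm : Smooth (pullback.snd c c).left := h2.2 _ ⟨whiskerLeftIso (BasedFunctor.comp E m)
    (whiskerRightIso ig (FibCat.fpFst H (BasedFunctor.comp v π))) ≪≫ iE⟩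
  have sqS := (IsPullback.of_hasPullback c c).map (Over.forget S)
  refine smooth_of_local_section c.left d₀ hfp ?_
  rw [← IsPullback.isoIsPullback_hom_snd _ _ (IsPullback.of_hasPullback c.left c.left) sqS]
  exact (MorphismProperty.cancel_left_of_respectsIso @Smooth _ _).2 hsm

/-- A gerbe between algebraic stacks is smooth. -/
theorem locQ_smooth_of_isGerbeOver (h𝒳 : AlgSt.IsAlgStack Scheme.fppfPrecoverage 𝒳)
    (h𝒴 : AlgSt.IsAlgStack Scheme.fppfPrecoverage 𝒴) {f : 𝒳 ⥤ᵇ 𝒴} (hf : Gerb.IsGerbeOver (J S) f) :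
    AlgSt.LocQ (LocP @Smooth) f := by
  obtain ⟨V, y, hy, hy'⟩ := h𝒴.atlas
  have hV := (isDM_of_repByAlgSp (repByAlgSp_overCat V)).1
  have hfp := isAlgStack_fp hV h𝒳 h𝒴.isStack h𝒴.diag y f
  obtain ⟨W, w, hw, hw'⟩ := hfp.atlas
  obtain ⟨c, ⟨jc⟩⟩ := exists_overMap_iso (BasedFunctor.comp w (FibCat.fpFst y f))
  have hs := (smooth_of_atlas hfp
    (GerbLib.isGerbeOver_fpFst h𝒳.isStack.1 h𝒴.isStack.1 hV.isStack.1 y hf) w hw hw' c jc).1
  refine ⟨W, V, BasedFunctor.comp w (FibCat.fpSnd y f), y, c,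
    (whiskerLeftIso w (FibCat.fpIso y f)).symm ≪≫ whiskerRightIso jc y,
    repByAlgSpWith_locP_comp (isFibGrpd_overCat W) hfp.isStack.1 hw (repByAlgSpWith_fpSnd f hy),
    repByAlgSpWith_isSurjectiveMor_comp (isFibGrpd_overCat W) hfp.isStack.1 hw' (repByAlgSpWith_fpSnd f hy'),
    hy, locP_of_repWith ((repWith_yon_map_iff (P := @Smooth) c).2 hs)⟩

/-- A gerbe is surjective on points. -/
theorem isSurjective_of_locSurjObj (h𝒳 : FibCat.IsFibGrpd 𝒳.p) {f : 𝒳 ⥤ᵇ 𝒴}
    (hf : Gerb.LocSurjObj (J S) f) : AlgSt.IsSurjective f := by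
  intro t
  obtain ⟨p, rfl⟩ := AlgSt.Points.mk_surjective t
  obtain ⟨R, hR, hR'⟩ := hf p.obj
  have hR₂ := (J S).pullback_stable (eqToHom p.lies.symm) hR
  obtain ⟨ι, V, v, -, -, hvs, hvR⟩ := exists_fppf_of_mem_J hR₂
  obtain ⟨i, w, -⟩ := hvs (IsLocalRing.closedPoint p.K)
  obtain ⟨x, g, hg⟩ := hR' _ (hvR i)
  have hx : 𝒳.p.obj x = V i := (f.w_obj x).symm.trans (IsHomLift.domain_eq 𝒴.p (v i ≫ eqToHom p.lies.symm) g)
  let L := Over.mk ((V i).left.fromSpecResidueField w ≫ (V i).hom)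
  let k : L ⟶ V i := Over.homMk ((V i).left.fromSpecResidueField w) rfl
  obtain ⟨x', φ, hφ⟩ := exists_lift_of_eq h𝒳 hx k
  let q : AlgSt.FPt 𝒳 :=
    { K := (V i).left.residueField w
      str := (V i).left.fromSpecResidueField w ≫ (V i).hom
      obj := x'
      lies := IsHomLift.domain_eq 𝒳.p k φ }
  exact ⟨AlgSt.Points.mk q, pts_eq_of_hom (p := q.map f) (q := p) (f.map φ ≫ g)⟩

end Groth.Agent.GerbFlat
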