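import Groth.Agent.GerbFlat.Diag
import Groth.Agent.GerbFlat.Smooth
import Groth.Agent.AlgStLib.Graph
import Groth.Agent.FibBase.InertiaFp

/-! # Gerbes between algebraic stacks -/

set_option backward.isDefEq.respectTransparency false
set_option backward.isDefEq.respectTransparency.types false

universe u

open CategoryTheory CategoryTheory.Functor CategoryTheory.Limits AlgebraicGeometry Opposite AlgSp
open Groth.Agent.FibBase Groth.Agent.AlgSpLib Groth.Agent.AlgStLib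

namespace Groth.Agent.GerbFlat

variable {S : Scheme.{u}} {𝒳 𝒴 : AlgSt.Cat S}

theorem locQ_of_P3 (h𝒳 : AlgSt.IsAlgStack Scheme.fppfPrecoverage 𝒳)
    (h𝒴 : AlgSt.IsAlgStack Scheme.fppfPrecoverage 𝒴) {f : 𝒳 ⥤ᵇ 𝒴} (h : AlgSt.RepByAlgSpWith P3 f) :
    AlgSt.IsSurjective f ∧ AlgSt.LocQ (LocP @Flat) f ∧ AlgSt.LocQ (LocP @LocallyOfFinitePresentation) f :=
  ⟨isSurjective_of_repByAlgSpWith h𝒳.isStack.1 h𝒴.isStack.1 h𝒳.atlas
      (repByAlgSpWith_mono (fun _ _ _ hh => hh.1.1) h),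
    (locQ_iff_repByAlgSpWith isSmoothLocalST_flat stableBC_locP (isLocalOnBase_fppf_locP _) h𝒳 h𝒴
      (repByAlgSp1_of_repByAlgSpWith h)).2 (repByAlgSpWith_mono (fun _ _ _ hh => hh.1.2) h),
    (locQ_iff_repByAlgSpWith isSmoothLocalST_lfp stableBC_locP (isLocalOnBase_fppf_locP _) h𝒳 h𝒴
      (repByAlgSp1_of_repByAlgSpWith h)).2 (repByAlgSpWith_mono (fun _ _ _ hh => hh.2) h)⟩

theorem locQ_mono {P Q : MorphismProperty (Sp S)} (hPQ : P ≤ Q) {f : 𝒳 ⥤ᵇ 𝒴} (h : AlgSt.LocQ P f) :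
    AlgSt.LocQ Q f := by
  obtain ⟨U, V, x, y, k, i, hx, hx', hy, hk⟩ := h
  exact ⟨U, V, x, y, k, i, hx, hx', hy, hPQ _ hk⟩

theorem isAlgStack_fp_self (h𝒳 : AlgSt.IsAlgStack Scheme.fppfPrecoverage 𝒳)
    (h𝒴 : AlgSt.IsAlgStack Scheme.fppfPrecoverage 𝒴) (f : 𝒳 ⥤ᵇ 𝒴) :
    AlgSt.IsAlgStack Scheme.fppfPrecoverage (FibCat.fp f f) :=
  isAlgStack_fp h𝒳 h𝒳 h𝒴.isStack h𝒴.diag f f

/-- A gerbe and its diagonal are fppf. -/
theorem fppf_and_diag_of_isGerbeOver (h𝒳 : AlgSt.IsAlgStack Scheme.fppfPrecoverage 𝒳)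
    (h𝒴 : AlgSt.IsAlgStack Scheme.fppfPrecoverage 𝒴) {f : 𝒳 ⥤ᵇ 𝒴} (hf : Gerb.IsGerbeOver (J S) f) :
    (AlgSt.IsSurjective f ∧ AlgSt.LocQ (LocP @Flat) f ∧ AlgSt.LocQ (LocP @LocallyOfFinitePresentation) f) ∧
      (AlgSt.IsSurjective (FibCat.diag f) ∧ AlgSt.LocQ (LocP @Flat) (FibCat.diag f) ∧
        AlgSt.LocQ (LocP @LocallyOfFinitePresentation) (FibCat.diag f)) :=
  ⟨⟨isSurjective_of_locSurjObj h𝒳.isStack.1 hf.1,
      locQ_mono (fun _ _ _ hk => locP_mono (Q := @Flat) (fun _ _ g (_ : Smooth g) => inferInstanceAs (Flat g)) hk)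
        (locQ_smooth_of_isGerbeOver h𝒳 h𝒴 hf),
      locQ_mono (fun _ _ _ hk => locP_mono (Q := @LocallyOfFinitePresentation)
        (fun _ _ g (_ : Smooth g) => inferInstanceAs (LocallyOfFinitePresentation g)) hk)
        (locQ_smooth_of_isGerbeOver h𝒳 h𝒴 hf)⟩,
    locQ_of_P3 h𝒳 (isAlgStack_fp_self h𝒳 h𝒴 f) (diag_of_isGerbeOver h𝒳 h𝒴 hf)⟩

/-- A morphism is a gerbe once it and its diagonal are fppf. -/
theorem isGerbeOver_of_fppf (h𝒳 : AlgSt.IsAlgStack Scheme.fppfPrecoverage 𝒳)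
    (h𝒴 : AlgSt.IsAlgStack Scheme.fppfPrecoverage 𝒴) {f : 𝒳 ⥤ᵇ 𝒴}
    (h₁ : AlgSt.IsSurjective f) (h₂ : AlgSt.LocQ (LocP @Flat) f)
    (h₃ : AlgSt.LocQ (LocP @LocallyOfFinitePresentation) f)
    (d₁ : AlgSt.IsSurjective (FibCat.diag f)) (d₂ : AlgSt.LocQ (LocP @Flat) (FibCat.diag f))
    (d₃ : AlgSt.LocQ (LocP @LocallyOfFinitePresentation) (FibCat.diag f)) : Gerb.IsGerbeOver (J S) f := by
  have hfp := isAlgStack_fp_self h𝒳 h𝒴 f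
  have hd : Gerb.LocSurjObj (J S) (FibCat.diag f) :=
    locSurjObj_of_locEssSurj hfp.isStack.1 (locEssSurj_of_locQ h𝒳 hfp d₂ d₃ d₁)
  refine ⟨locSurjObj_of_locEssSurj h𝒴.isStack.1 (locEssSurj_of_locQ h𝒳 h𝒴 h₂ h₃ h₁), fun x x' b hb => ?_⟩
  have : FibCat.IsFibGrpd 𝒴.p := h𝒴.isStack.1
  have hb' : IsIso b := by
    have := fiber_isGroupoid h𝒴.isStack.1 (𝒳.p.obj x)
    let a₁ : 𝒴.p.Fiber (𝒳.p.obj x) := ⟨f.obj x, f.w_obj x⟩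
    let a₂ : 𝒴.p.Fiber (𝒳.p.obj x) :=
      ⟨f.obj x', IsHomLift.codomain_eq 𝒴.p (𝟙 (𝒳.p.obj x)) b⟩
    exact Functor.map_isIso (Fiber.fiberInclusion (p := 𝒴.p) (S := 𝒳.p.obj x)) (⟨b, hb⟩ : a₁ ⟶ a₂)
  let η : (FibCat.fp f f).obj := ⟨⟨x, x', asIso b⟩, hb⟩
  obtain ⟨R, hR, hR'⟩ := hd η
  refine ⟨R, hR, fun V k hk => ?_⟩
  obtain ⟨a, g, hg⟩ := hR' k hk
  refine ⟨a, g.hom.fst, g.hom.snd, IsHomLift.of_fac' 𝒳.p k g.hom.fst (IsHomLift.domain_eq (FibCat.fp f f).p k g)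
    (IsHomLift.codomain_eq (FibCat.fp f f).p k g) (IsHomLift.fac' (FibCat.fp f f).p k g), fp_isHomLift_snd' (F := f) (G := f) k g (h := hg), ?_⟩
  have w : f.map g.hom.fst ≫ b = 𝟙 _ ≫ f.map g.hom.snd := g.hom.w
  exact w.trans (Category.id_comp _)

theorem inertia_of_isGerbeOver (h𝒳 : AlgSt.IsAlgStack Scheme.fppfPrecoverage 𝒳)
    (h𝒴 : AlgSt.IsAlgStack Scheme.fppfPrecoverage 𝒴) {f : 𝒳 ⥤ᵇ 𝒴} (hf : Gerb.IsGerbeOver (J S) f) :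
    AlgSt.LocQ (LocP @Flat) (FibCat.inertiaToBase f) ∧
      AlgSt.LocQ (LocP @LocallyOfFinitePresentation) (FibCat.inertiaToBase f) := by
  have hd := diag_of_isGerbeOver h𝒳 h𝒴 hf
  have hI : AlgSt.RepByAlgSpWith P3 (FibCat.inertiaToBase f) :=
    (repByAlgSpWith_iff_of_square (f := FibCat.fpFst (FibCat.diag f) (FibCat.diag f))
      (f' := FibCat.inertiaToBase f) (a := inertiaToFp f) (b := BasedFunctor.id _) (inertiaToFp_isEquivOver f)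
      isEquivOver_id (Iso.refl _)).1 (repByAlgSpWith_fpFst _ hd)
  have hfp := isAlgStack_fp_self h𝒳 h𝒴 f
  have hgI : FibCat.IsFibGrpd (FibCat.inertia f).p :=
    (isFibGrpd_iff_of_isEquivOver (inertiaToFp_isEquivOver f)).2 (fp_isFibGrpd h𝒳.isStack.1 h𝒳.isStack.1 hfp.isStack.1)
  exact (locQ_of_P3 (isAlgStack_of_repByAlgSp1 hgI h𝒳 (repByAlgSp1_of_repByAlgSpWith hI)) h𝒳 hI).2

theorem isUnivHomeo_of_isGerbeOver (h𝒳 : AlgSt.IsAlgStack Scheme.fppfPrecoverage 𝒳)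
    (h𝒴 : AlgSt.IsAlgStack Scheme.fppfPrecoverage 𝒴) {f : 𝒳 ⥤ᵇ 𝒴} (hf : Gerb.IsGerbeOver (J S) f) :
    AlgSt.IsUnivHomeo Scheme.fppfPrecoverage f := by
  intro 𝒵 h𝒵 g
  have hP := isAlgStack_fp h𝒵 h𝒳 h𝒴.isStack h𝒴.diag g f
  let q := FibCat.fpFst g f
  have hq : Gerb.IsGerbeOver (J S) q :=
    GerbLib.isGerbeOver_fpFst h𝒳.isStack.1 h𝒴.isStack.1 h𝒵.isStack.1 g hf
  have hPP := isAlgStack_fp_self hP h𝒵 q
  have hd : AlgSt.IsSurjective (FibCat.diag q) := (fppf_and_diag_of_isGerbeOver hP h𝒵 hq).2.1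
  have hs : Function.Surjective (AlgSt.Points.map q) := isSurjective_of_locSurjObj hP.isStack.1 hq.1
  have hi : Function.Injective (AlgSt.Points.map q) := fun a b hab => by
    obtain ⟨w, hw₁, hw₂⟩ := exists_pts_fp hP.isStack.1 h𝒵.isStack.1 hP.isStack.1 q q a b hab
    obtain ⟨z, rfl⟩ := hd w
    rw [← hw₁, ← hw₂, ← pts_map_comp, ← pts_map_comp]
    exact pts_map_congr (Iso.refl (BasedFunctor.id _)) z
  have ho : AlgSt.IsOpenMor q := by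
    obtain ⟨U, V, x, y, k, i, -, hx', hy, hk⟩ := locQ_smooth_of_isGerbeOver hP h𝒵 hq
    have : Smooth k.left := locP_yon_map (P := @Smooth) hk
    exact isOpenMor_of_locQ hP.isStack.1 h𝒵.isStack.1 hP.atlas i hx' hy k.left.isOpenMap
  exact ⟨continuous_pts_map h𝒵.isStack.1 h𝒵.atlas q, ho, ⟨hi, hs⟩⟩

end Groth.Agent.GerbFlat
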