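import Groth.Agent.S1386
import Groth.Agent.AlgSpPts.Sep
import Groth.Agent.SrcDescent.SmoothFppf
import Groth.Agent.AlgSpLib.Sheaf
import Groth.Agent.AlgSpLib.Descends

/-! # A map with local sections from a flat scheme -/

set_option backward.isDefEq.respectTransparency false
set_option backward.isDefEq.respectTransparency.types false

universe u

open CategoryTheory CategoryTheory.Limits AlgebraicGeometry Groth.Agent.AlgSpLib Groth.Agent.SrcDescent

namespace Groth.Agent.GerbFlat

theorem isPullback_fiberMap {X Y S : Scheme.{u}} (f : X ⟶ Y) (g : Y ⟶ S) (s : S) :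
    IsPullback ((f ≫ g).fiberι s) (MoreMor.fiberMap f g s) f (g.fiberι s) := by
  have e : MoreMor.fiberMap f g s ≫ g.fiberToSpecResidueField s = (f ≫ g).fiberToSpecResidueField s :=
    pullback.lift_snd _ _ _
  refine IsPullback.of_bot ?_ (pullback.lift_fst _ _ _).symm
    (IsPullback.of_hasPullback g (S.fromSpecResidueField s))
  show IsPullback _ (MoreMor.fiberMap f g s ≫ g.fiberToSpecResidueField s) _ _
  rw [e]
  exact IsPullback.of_hasPullback (f ≫ g) (S.fromSpecResidueField s)

/-- If `P ⟶ U` is flat, locally of finite presentation, `P ⟶ V` is flat on fibres over `U` and has fppf local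
sections then it is fppf, and `V ⟶ U` inherits smoothness. -/
theorem fppf_of_local_section {P V U W : Scheme.{u}} (a : P ⟶ V) (c : V ⟶ U)
    [LocallyOfFinitePresentation (a ≫ c)] [Flat (a ≫ c)] (σ : W ⟶ P) (hw : fppf (σ ≫ a))
    (hfib : ∀ u : U, Flat (MoreMor.fiberMap a c u)) :
    fppf a ∧ LocallyOfFinitePresentation c ∧ Flat c ∧ (Smooth (a ≫ c) → Smooth c) := by
  have : Surjective (σ ≫ a) := hw.1.1
  have : Flat (σ ≫ a) := hw.1.2
  have : LocallyOfFinitePresentation (σ ≫ a) := hw.2
  have : LocallyOfFiniteType σ := locallyOfFiniteType_of_comp σ a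
  have : LocallyOfFiniteType ((σ ≫ a) ≫ c) := by rw [Category.assoc]; infer_instance
  have : LocallyOfFiniteType c := locallyOfFiniteType_of_fppf_comp (σ ≫ a) c
  have : LocallyOfFinitePresentation a := AlgSpPts.locallyOfFinitePresentation_of_comp a c
  have hS : Surjective a := ⟨fun v => by
    obtain ⟨w, hw⟩ := (σ ≫ a).surjective v
    exact ⟨σ w, by rw [← hw, Scheme.Hom.comp_apply]⟩⟩
  have key := fun x => ((Groth.Agent.S1386.result a c).1 x).1 ⟨Flat.stalkMap (a ≫ c) x, by
    have := hfib (c (a x))
    exact Flat.stalkMap _ _⟩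
  have hf : Flat a := Flat.of_stalkMap a fun x => (key x).2
  exact ⟨fppf_of a, locallyOfFinitePresentation_of_fppf_comp a c, flat_of_fppf_comp a c,
    fun h => smooth_of_fppf_comp a c⟩

/-- Flatness of the fibres may be checked after an fppf base change of the target. -/
theorem flat_fiberMap {P V U W : Scheme.{u}} (a : P ⟶ V) (c : V ⟶ U) (u : U) (w : W ⟶ V) (hw : fppf w)
    (h : Flat (pullback.snd a (pullback.snd w (c.fiberι u) ≫ c.fiberι u))) :
    Flat (MoreMor.fiberMap a c u) := by
  have sq := isPullback_fiberMap a c u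
  let w' := pullback.snd w (c.fiberι u)
  let m := pullback.lift (pullback.fst a (w' ≫ c.fiberι u)) (pullback.snd a (w' ≫ c.fiberι u) ≫ w')
    (by rw [Category.assoc]; exact pullback.condition)
  have sqP : IsPullback (sq.lift (pullback.fst a (w' ≫ c.fiberι u)) (pullback.snd a (w' ≫ c.fiberι u) ≫ w')
      (by rw [Category.assoc]; exact pullback.condition)) (pullback.snd a (w' ≫ c.fiberι u))
      (MoreMor.fiberMap a c u) w' :=
    IsPullback.of_right (by rw [sq.lift_fst]; exact IsPullback.of_hasPullback a (w' ≫ c.fiberι u))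
      (sq.lift_snd _ _ _) sq
  have : MorphismProperty.DescendsAlong (@Flat : MorphismProperty Scheme.{u}) fppf := by
    unfold fppf; infer_instance
  exact MorphismProperty.of_isPullback_of_descendsAlong (Q := fppf) sqP.flip
    (MorphismProperty.of_isPullback (IsPullback.of_hasPullback w (c.fiberι u)) hw) h

end Groth.Agent.GerbFlat
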